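import Cfsg.Agent.Lib.RootSpecial.Blocks
import Cfsg.Agent.Lib.RootSub.Special

/-!
Degenerate classes: a rank one pair inside a block forces all elements of all members to have order at most `3`
and rules out an image of `SL₂(k)`, `|k| > 3`, in the pair.

Let `s` centralise the block of a neighbour `D` of `A` and move `A` to `B`.  The conjugates of `s` under `A` act
on the members of the blocks of `A` and of the orbit of `D` as commuting permutations.  Comparing the images of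
these members gives that all swaps `d_a a⁻¹` induce the same map `A → D`, so that `a ↦ d_a` is multiplicative.
-/

set_option autoImplicit false
set_option linter.unusedSectionVars false

namespace CfsgLib.RootSpecial

open Cfsg CfsgLib.RootSub
open scoped commutatorElement

universe u

variable {G : Type u} [Group G]

/-- Elements fixing the blocks of `A` and of the orbit of `D`. -/
def Fx (S : Set (Subgroup G)) (A D : Subgroup G) : Set G :=
  {m | Eqv S (cj A m) A ∧ ∀ y ∈ A, Eqv S (cj (cj D y) m) (cj D y)}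

/-- The members of these blocks. -/
def Tgt (S : Set (Subgroup G)) (A D P : Subgroup G) : Prop :=
  P ∈ S ∧ (Eqv S A P ∨ ∃ y ∈ A, Eqv S (cj D y) P)

/-- The two elements act on these members as commuting permutations. -/
def CAct (S : Set (Subgroup G)) (A D : Subgroup G) (g h : G) : Prop :=
  ∀ P, Tgt S A D P → cj P (g * h) = cj P (h * g)

variable {S : Set (Subgroup G)} (hS : Deg S) {A B D E P Q : Subgroup G}
include hS

theorem fx_mul {m n : G} (hm : m ∈ Fx S A D) (hn : n ∈ Fx S A D) : m * n ∈ Fx S A D := by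
  refine ⟨?_, fun y hy => ?_⟩
  · rw [← cj_cj]; exact (hm.1.cj hS n).trans hn.1
  · rw [← cj_cj]; exact ((hm.2 y hy).cj hS n).trans (hn.2 y hy)

theorem fx_inv {m : G} (hm : m ∈ Fx S A D) : m⁻¹ ∈ Fx S A D := by
  refine ⟨?_, fun y hy => ?_⟩
  · have h := hm.1.cj hS m⁻¹
    rw [cj_cancel] at h
    exact h.symm
  · have h := (hm.2 y hy).cj hS m⁻¹
    rw [cj_cancel] at h
    exact h.symm

theorem fx_conj {m a : G} (ha : a ∈ A) (hm : m ∈ Fx S A D) : a⁻¹ * m * a ∈ Fx S A D := by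
  refine ⟨?_, fun y hy => ?_⟩
  · have h := hm.1.cj hS a
    rwa [cj_cj, cj_self ha, show cj A (m * a) = cj A (a⁻¹ * m * a) by
      rw [mul_assoc a⁻¹, ← cj_cj a⁻¹, cj_self (inv_mem ha)]] at h
  · have h := (hm.2 (y * a⁻¹) (mul_mem hy (inv_mem ha))).cj hS a
    rwa [cj_cj, cj_cj, cj_cj, show y * a⁻¹ * (m * a) = y * (a⁻¹ * m * a) by group,
      inv_mul_cancel_right, ← cj_cj y] at h

theorem fx_conj' {m a : G} (ha : a ∈ A) (hm : m ∈ Fx S A D) : a * m * a⁻¹ ∈ Fx S A D := by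
  have h := fx_conj hS (inv_mem ha) hm
  rwa [inv_inv] at h

theorem tgt_fx {m : G} (hm : m ∈ Fx S A D) (hP : Tgt S A D P) : Tgt S A D (cj P m) := by
  refine ⟨hS.conj _ hP.1 m, ?_⟩
  rcases hP.2 with h | ⟨y, hy, h⟩
  · exact Or.inl (hm.1.symm.trans (h.cj hS m))
  · exact Or.inr ⟨y, hy, (hm.2 y hy).symm.trans (h.cj hS m)⟩

theorem tgt_conj {a : G} (ha : a ∈ A) (hP : Tgt S A D P) : Tgt S A D (cj P a) := by
  refine ⟨hS.conj _ hP.1 a, ?_⟩
  rcases hP.2 with h | ⟨y, hy, h⟩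
  · left
    have h1 := h.cj hS a
    rwa [cj_self ha] at h1
  · right
    refine ⟨y * a, mul_mem hy ha, ?_⟩
    have h1 := h.cj hS a
    rwa [cj_cj] at h1

theorem cact_inv {g h : G} (hg : g ∈ Fx S A D) (hc : CAct S A D g h) : CAct S A D g⁻¹ h := by
  intro P hP
  have h1 := hc _ (tgt_fx hS (fx_inv hS hg) hP)
  rw [cj_cj, cj_cj, ← mul_assoc, inv_mul_cancel, one_mul, ← mul_assoc g⁻¹] at h1
  rw [← cj_cj h g⁻¹, h1, cj_cj, mul_inv_cancel_right]

/-- An element fixing the block of `E` fixes the blocks of its orbit. -/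
theorem fx_orbit (hA : A ∈ S) (h : Nbr S A D) (hE : Nbr S A E) (hDE : E ∈ Perp S D) {m : G}
    (hm : m ∈ Fx S A D) (hmE : Eqv S (cj E m) E) {x : G} (hx : x ∈ A) :
    Eqv S (cj E (x * m)) (cj E x) := by
  have h1 : m⁻¹ * x * m ∈ cj A m := mem_cj hx
  obtain ⟨a', ha', hae⟩ := hE.orbit_block hS hA (hS.conj _ hA m) hm.1.symm h1
  have h2 : Eqv S (cj E (x * m)) (cj E a') := by
    refine (hae.trans ?_).symm
    have h3 := hmE.cj hS (m⁻¹ * x * m)
    rw [cj_cj, show m * (m⁻¹ * x * m) = x * m by group] at h3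
    exact h3.symm
  have h4 : cj E (x * m) ∈ Perp S (cj D x) := by
    rw [show Perp S (cj D x) = Perp S (cj (cj D x) m) from (hm.2 x hx).symm, cj_cj, perp_cj hS, cj_cancel]
    exact hDE
  have h5 : cj D x ∈ Perp S (cj E a') := by
    rw [show Perp S (cj E a') = Perp S (cj E (x * m)) from h2.symm]
    exact perp_symm hS (hS.conj _ h.1 x) h4
  have h6 : cj E a' = cj E x :=
    line_unique (P := cj D x) (fun hc => not_comm (h.conj_left hS hx).2.1 hc.symm) hE.2.1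
      (cj_mem_unipotent hE.2.1 ha') (cj_mem_unipotent hE.2.1 hx) h5.2.2.symm
      (show Comm (cj D x) (cj E x) from hDE.2.2.cj x)
  rwa [h6] at h2

/-- The image of `A` under `m` followed by the swap of `b`. -/
theorem swap_fx (hA : A ∈ S) (h : Nbr S A D) {m b d : G} (hm : m ∈ Fx S A D) (hd : Special.Corr A D b d) :
    cj A (m * (d * b⁻¹)) = cj D (m⁻¹ * b * m * b⁻¹) := by
  have hP : cj A m ∈ S := hS.conj _ hA m
  have hn : Nbr S (cj A m) D := h.of_eqv hS hP hm.1.symm hA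
  obtain ⟨p, hp⟩ := Special.exists_corr (RankOnePair_symm hn.2.1) hd.2.2.1 hd.2.2.2.1
  have he : cj D p = cj (cj A m) d := hp.2.2.2.2
  have hb : cj A d = cj D b := hd.2.2.2.2
  have h1 : Eqv S (cj D p) (cj D (m⁻¹ * b * m)) := by
    rw [he]
    refine (hm.1.cj hS d).trans ?_
    rw [hb, mul_assoc, ← cj_cj m⁻¹]
    have h2 : Eqv S (cj D m⁻¹) D := by
      have := (fx_inv hS hm).2 1 (one_mem A)
      rwa [cj_one] at this
    refine ((h2.cj hS (b * m)).trans ?_).symm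
    rw [← cj_cj]
    exact hm.2 b hd.1
  have h3 : p = m⁻¹ * b * m := hn.unique hS hP hp.2.2.1 (mem_cj hd.1) h1
  rw [← cj_cj m, ← cj_cj d, ← he, h3, cj_cj]

section Moving

variable (hA : A ∈ S) (hB : B ∈ S) (hBA : B ≠ A) (heq : Eqv S A B) (h : Nbr S A D) (hE : Nbr S A E)
  (hDE : E ∈ Perp S D) {s : G} (hs : s ∈ Xb S E) (hAs : cj A s = B)
include hA hB hBA heq h hE hDE hs hAs

theorem perp_block (hQ : Q ∈ S) (he : Eqv S D Q) : Q ∈ Perp S E := by
  refine perp_symm hS hQ ?_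
  rw [← show Perp S D = Perp S Q from he]
  exact hDE

theorem fx_s : s ∈ Fx S A D := by
  refine ⟨by rw [hAs]; exact heq.symm, fun y hy => ?_⟩
  by_cases hy1 : y = 1
  · rw [hy1, cj_one, xb_fix hS hs (perp_symm hS h.1 hDE)]
    rfl
  obtain ⟨d, hd⟩ := Special.exists_corr h.2.1 hy hy1
  rw [show cj D y = cj A d from hd.2.2.2.2.symm, cj_cj,
    ← (xb_comm hS hs (perp_symm hS h.1 hDE) hd.2.2.1).eq, ← cj_cj, hAs]
  exact (show Eqv S B A from heq.symm).cj hS d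

/-- The conjugates of `s` act as commuting permutations. -/
theorem cact {y z : G} (hy : y ∈ A) (hz : z ∈ A) :
    CAct S A D (y⁻¹ * s * y) (z⁻¹ * s * z) := by
  have hsX := fx_s hS hA hB hBA heq h hE hDE hs hAs
  suffices hw : ∀ x ∈ A, x ≠ 1 → CAct S A D s (x⁻¹ * s * x) by
    intro P hP
    by_cases hyz : z = y
    · rw [hyz]
    have hx1 : z * y⁻¹ ≠ 1 := fun e => hyz (mul_inv_eq_one.1 e)
    have h1 := hw _ (mul_mem hz (inv_mem hy)) hx1 _ (tgt_conj hS (inv_mem hy) hP)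
    have h2 := congrArg (fun K => cj K y) h1
    simp only [cj_cj] at h2
    convert h2 using 2 <;> group
  intro x hx hx1
  set t := x⁻¹ * s * x with ht
  have htX : t ∈ Fx S A D := fx_conj hS hx hsX
  have hsE : Eqv S (cj E s) E := xb_eqv hS hs
  have htE : Eqv S (cj E t) E := by
    have h1 := (fx_orbit hS hA h hE hDE hsX hsE (inv_mem hx)).cj hS x
    rwa [cj_cj, cj_cj, inv_mul_cancel, cj_one] at h1
  set w := s⁻¹ * t⁻¹ * s * t with hw
  have hw1 : w ∈ Xb S E := by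
    rw [show w = s⁻¹ * (t⁻¹ * s * t) by rw [hw]; group]
    refine mul_mem (inv_mem hs) ?_
    rw [← htE.xb hS]
    exact xb_conj hS hs t
  have hw2 : w ∈ Xb S (cj E x) := by
    have h1 : t ∈ Xb S (cj E x) := xb_conj hS hs x
    rw [hw]
    refine mul_mem ?_ h1
    have h2 : Eqv S (cj (cj E x) s) (cj E x) := by
      rw [cj_cj]; exact fx_orbit hS hA h hE hDE hsX hsE hx
    rw [← h2.xb hS]
    exact xb_conj hS (inv_mem h1) s
  -- `w` fixes all targets
  have hcD : ∀ d ∈ D, Commute w d := fun d hd => xb_comm hS hw1 (perp_symm hS h.1 hDE) hd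
  have hwA : ∀ P ∈ S, Eqv S A P → cj P w = P := by
    intro P hP hPe
    obtain ⟨d, hd⟩ := Special.exists_corr h.2.1 hx hx1
    have h1 : cj P d ∈ Perp S (cj E x) := by
      refine perp_symm hS (hS.conj _ hP d) ?_
      rw [← show Perp S (cj A d) = Perp S (cj P d) from hPe.cj hS d, show cj A d = cj D x from hd.2.2.2.2,
        perp_cj hS, cj_cancel]
      exact hDE
    have h2 := xb_fix hS hw2 h1
    rw [cj_cj, ← (hcD d hd.2.2.1).eq, ← cj_cj] at h2
    exact cj_inj h2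
  have hwT : ∀ P, Tgt S A D P → cj P w = P := by
    rintro P ⟨hP, he | ⟨y, hy, he⟩⟩
    · exact hwA P hP he
    by_cases hy1 : y = 1
    · rw [hy1, cj_one] at he
      exact xb_fix hS hw1 (perp_block hS hA hB hBA heq h hE hDE hs hAs hP he)
    obtain ⟨d, hd⟩ := Special.exists_corr h.2.1 hy hy1
    have he' : Eqv S A (cj P d⁻¹) := by
      have h1 := he.cj hS d⁻¹
      rwa [show cj D y = cj A d from hd.2.2.2.2.symm, cj_cancel] at h1
    have h1 := congrArg (fun K => cj K d) (hwA _ (hS.conj _ hP _) he')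
    simp only [cj_cj] at h1
    rwa [mul_assoc, (hcD d hd.2.2.1).eq, ← mul_assoc, inv_mul_cancel, one_mul, cj_one] at h1
  intro P hP
  rw [show s * t = t * s * w by rw [hw]; group, ← cj_cj (t * s) w, ← cj_cj t s]
  exact hwT _ (tgt_fx hS hsX (tgt_fx hS htX hP))

/-- The images of the targets are symmetric in two elements of `A`. -/
theorem symm_act {a b : G} (ha : a ∈ A) (hb : b ∈ A) (hP : Tgt S A D P) :
    cj P ((a * s * a⁻¹ * s⁻¹)⁻¹ * b * (a * s * a⁻¹ * s⁻¹) * b⁻¹) =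
      cj P ((b * s * b⁻¹ * s⁻¹)⁻¹ * a * (b * s * b⁻¹ * s⁻¹) * a⁻¹) := by
  have hab : a * b = b * a := Special.mul_comm_of (hS.abel A hA) ha hb
  have hsX := fx_s hS hA hB hBA heq h hE hDE hs hAs
  have hK : ∀ u ∈ A, u * s * u⁻¹ ∈ Fx S A D := fun u hu => fx_conj' hS hu hsX
  have hc : ∀ u ∈ A, ∀ v ∈ A, CAct S A D (u * s * u⁻¹) (v * s * v⁻¹) := by
    intro u hu v hv
    have h1 := cact hS hA hB hBA heq h hE hDE hs hAs (inv_mem hu) (inv_mem hv)
    rwa [inv_inv, inv_inv] at h1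
  have hi : ∀ u ∈ A, ∀ v ∈ A, CAct S A D (u * s * u⁻¹)⁻¹ (v * s * v⁻¹) := fun u hu v hv =>
    cact_inv hS (hK u hu) (hc u hu v hv)
  have hii : ∀ u ∈ A, ∀ v ∈ A, CAct S A D (u * s * u⁻¹)⁻¹ (v * s * v⁻¹)⁻¹ := fun u hu v hv =>
    cact_inv hS (hK u hu) (fun P hP => ((hi v hv u hu) P hP).symm)
  set f := (a * s * a⁻¹)⁻¹ with hf
  set g := (b * a) * s * (b * a)⁻¹ with hg
  set e := (b * s * b⁻¹)⁻¹ with he
  rw [show (a * s * a⁻¹ * s⁻¹)⁻¹ * b * (a * s * a⁻¹ * s⁻¹) * b⁻¹ = s * (f * g * e) by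
      rw [hf, hg, he]; group,
    show (b * s * b⁻¹ * s⁻¹)⁻¹ * a * (b * s * b⁻¹ * s⁻¹) * a⁻¹ = s * (e * g * f) by
      rw [hf, hg, he, ← hab]; group,
    ← cj_cj s, ← cj_cj s]
  have hT : Tgt S A D (cj P s) := tgt_fx hS hsX hP
  have hgX : g ∈ Fx S A D := hK _ (mul_mem hb ha)
  generalize cj P s = R at hT
  have e1 : cj R (f * g) = cj R (g * f) := hi a ha _ (mul_mem hb ha) R hT
  have e2 : cj (cj R g) (f * e) = cj (cj R g) (e * f) := hii a ha b hb _ (tgt_fx hS hgX hT)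
  have e3 : cj R (e * g) = cj R (g * e) := hi b hb _ (mul_mem hb ha) R hT
  calc cj R (f * g * e) = cj (cj R (f * g)) e := (cj_cj _ _).symm
    _ = cj (cj R g) (f * e) := by rw [e1, cj_cj, cj_cj, mul_assoc g f e]
    _ = cj (cj R (g * e)) f := by rw [e2, cj_cj, cj_cj, mul_assoc g e f]
    _ = cj R (e * g * f) := by rw [← e3, cj_cj]

/-- The swaps of two elements of `A` induce the same map. -/
theorem swap_eq_conj {a b da db x : G} (hda : Special.Corr A D a da) (hdb : Special.Corr A D b db)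
    (hx : x ∈ A) : (db * b⁻¹)⁻¹ * x * (db * b⁻¹) = (da * a⁻¹)⁻¹ * x * (da * a⁻¹) := by
  have hsX := fx_s hS hA hB hBA heq h hE hDE hs hAs
  have ha := hda.1
  have hb := hdb.1
  have hm : ∀ u ∈ A, u * s * u⁻¹ * s⁻¹ ∈ Fx S A D := fun u hu =>
    fx_mul hS (fx_conj' hS hu hsX) (fx_inv hS hsX)
  have hAμ : ∀ {u d : G}, Special.Corr A D u d → cj A (d * u⁻¹) = D := fun {u d} hd => by
    rw [← cj_cj, show cj A d = cj D u from hd.2.2.2.2, cj_cancel]
  set ma := a * s * a⁻¹ * s⁻¹ with hma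
  set mb := b * s * b⁻¹ * s⁻¹ with hmb
  set r := (db * b⁻¹) * (da * a⁻¹)⁻¹ with hr
  have hDT : ∀ u ∈ A, Tgt S A D (cj D u) := fun u hu => ⟨hS.conj _ h.1 u, Or.inr ⟨u, hu, rfl⟩⟩
  -- the images of the conjugates by `u`
  have key : ∀ u ∈ A, cj (cj A (u⁻¹ * ma * u)) r = cj A (u⁻¹ * mb * u) := by
    intro u hu
    have h1 := swap_fx hS hA h (fx_conj hS hu (hm a ha)) hdb
    have h2 := swap_fx hS hA h (fx_conj hS hu (hm b hb)) hda
    have hub : u * b = b * u := Special.mul_comm_of (hS.abel A hA) hu hb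
    have hua : u * a = a * u := Special.mul_comm_of (hS.abel A hA) hu ha
    have e1 : ∀ v m : G, u * v = v * u →
        (u⁻¹ * m * u)⁻¹ * v * (u⁻¹ * m * u) * v⁻¹ = u⁻¹ * (m⁻¹ * v * m * v⁻¹) * u := by
      intro v m hv
      have e2 : u * v * u⁻¹ = v := by rw [hv, mul_inv_cancel_right]
      have e3 : u * v⁻¹ = v⁻¹ * u := ((show Commute u v from hv).inv_right).eq
      calc (u⁻¹ * m * u)⁻¹ * v * (u⁻¹ * m * u) * v⁻¹ = u⁻¹ * m⁻¹ * (u * v * u⁻¹) * m * (u * v⁻¹) := by group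
        _ = _ := by rw [e2, e3]; group
    have h3 : cj D (u⁻¹ * (ma⁻¹ * b * ma * b⁻¹) * u) = cj D (u⁻¹ * (mb⁻¹ * a * mb * a⁻¹) * u) := by
      rw [← cj_cj _ u, ← cj_cj u⁻¹ (ma⁻¹ * b * ma * b⁻¹), ← cj_cj _ u, ← cj_cj u⁻¹ (mb⁻¹ * a * mb * a⁻¹)]
      exact congrArg (fun K => cj K u) (symm_act hS hA hB hBA heq h hE hDE hs hAs ha hb (hDT _ (inv_mem hu)))
    rw [e1 b ma hub, h3, ← e1 a mb hua, ← h2] at h1
    rw [hr, ← cj_cj, cj_cj (u⁻¹ * ma * u), h1, ← cj_cj _ (da * a⁻¹), cj_cancel]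
  have hrA : cj A r = A := by
    rw [hr, ← cj_cj, hAμ hdb, ← hAμ hda, cj_cancel]
  have hx' : r⁻¹ * x * r ∈ A := hrA ▸ mem_cj hx
  have k1 := key 1 (one_mem A)
  rw [inv_one, one_mul, one_mul, mul_one, mul_one] at k1
  have k2 := key x hx
  rw [mul_assoc x⁻¹, mul_assoc x⁻¹, ← cj_cj x⁻¹, ← cj_cj x⁻¹, cj_self (inv_mem hx), ← cj_cj ma,
    ← cj_cj mb, cj_cj (A := cj A ma), show x * r = r * (r⁻¹ * x * r) by group, ← cj_cj r, k1] at k2
  have hne : cj A mb ≠ A := by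
    intro e
    apply hdb.2.1
    have h1 : cj B b⁻¹ = B := by
      have h2 := congrArg (fun K => cj K s) e
      simp only [cj_cj] at h2
      rwa [hmb, inv_mul_cancel_right, mul_assoc, ← cj_cj b, cj_self hb, ← cj_cj s, hAs] at h2
    have h3 := eq_one_of_normalizes (pair_of_eqv hS hA hB heq hBA.symm) hb
      (conjBy_eq_self_iff.1 (by simpa [cj] using h1))
    exact h3
  have hp : IsRankOnePair A (cj A mb) :=
    pair_of_eqv hS hA (hS.conj _ hA _) (hm b hb).1.symm hne.symm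
  have hz : cj (cj A mb) ((r⁻¹ * x * r) * x⁻¹) = cj A mb := by
    rw [← cj_cj, k2, cj_cancel]
  have h4 : (r⁻¹ * x * r * x⁻¹)⁻¹ = 1 := eq_one_of_normalizes hp (inv_mem (mul_mem hx' (inv_mem hx)))
    (conjBy_eq_self_iff.1 hz)
  have h5 : r⁻¹ * x * r = x := mul_inv_eq_one.1 (inv_eq_one.1 h4)
  rw [hr] at h5
  calc (db * b⁻¹)⁻¹ * x * (db * b⁻¹)
      = (da * a⁻¹)⁻¹ * ((db * b⁻¹ * (da * a⁻¹)⁻¹)⁻¹ * x * (db * b⁻¹ * (da * a⁻¹)⁻¹)) * (da * a⁻¹) := by group
    _ = _ := by rw [h5]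

/-- The elements of `A` have order at most `3`. -/
theorem pow_two_or_three {a : G} (ha : a ∈ A) : a ^ 2 = 1 ∨ a ^ 3 = 1 := by
  by_cases h2 : a ^ 2 = 1
  · exact Or.inl h2
  have ha1 : a ≠ 1 := fun e => h2 (by rw [e, one_pow])
  have hsp := h.special hS hA
  obtain ⟨d, hd⟩ := Special.exists_corr h.2.1 ha ha1
  obtain ⟨c, hc⟩ := Special.exists_corr h.2.1 (A.pow_mem ha 2) h2
  have hφ : ∀ {u v : G}, Special.Corr A D u v → (v * u⁻¹)⁻¹ * u * (v * u⁻¹) = v⁻¹ := by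
    intro u v hv
    have hs' := hsp.2 u hv.1 hv.2.1 v hv.2.2.1 hv.2.2.2.1 hv.2.2.2.2
    calc (v * u⁻¹)⁻¹ * u * (v * u⁻¹) = u * (v⁻¹ * u * v) * u⁻¹ := by group
      _ = v⁻¹ := by rw [hs']; group
  have hdc : c ^ 2 = d := Special.powRel 2 A D hsp (hS.abel A hA) (hS.abel D h.1)
    (fun z _ hz1 i hi hi2 => by obtain rfl : i = 1 := (by omega); rwa [pow_one]) two_pos a d c hd h2 hc
  have hcd : c⁻¹ = d⁻¹ ^ 2 := by
    rw [← hφ hc, swap_eq_conj hS hA hB hBA heq h hE hDE hs hAs hd hc (A.pow_mem ha 2), ← hφ hd, sq, sq]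
    group
  rw [inv_pow, inv_inj, ← hdc, ← pow_mul] at hcd
  have hc3 : c ^ 3 = 1 := by
    have h1 : c * c ^ 3 = c * 1 := by rw [← pow_succ', mul_one]; exact hcd.symm
    exact mul_left_cancel h1
  refine Or.inr (Special.corr_pow_eq_one (Special.special_symm hsp) (Special.corr_symm hd) ?_)
  rw [← hdc, ← pow_mul, show (2 * 3 : ℕ) = 3 * 2 from rfl, pow_mul, hc3, one_pow]

end Moving

/-- A bad pair makes all members of exponent `2` or `3`. -/
theorem orderOf_le (hA : A ∈ S) (hB : B ∈ S) (hBA : B ≠ A) (heq : Eqv S A B) :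
    ∀ P ∈ S, ∀ a ∈ P, 0 < orderOf a ∧ orderOf a ≤ 3 := by
  intro P hP a ha
  obtain ⟨D, h⟩ := exists_nbr hS hA
  obtain ⟨E, hE, hDE⟩ := h.exists_perp hS hA
  obtain ⟨s, hs, hAs⟩ := hE.exists_moving hS hA hB heq
  obtain ⟨g, hg⟩ := hS.cls A hA P hP
  rw [hg] at ha
  have ha' : g * a * g⁻¹ ∈ A := by
    have h1 := mem_cj (g := g⁻¹) ha
    rwa [cj_cancel, inv_inv] at h1
  have he : ∀ n : ℕ, (g * a * g⁻¹) ^ n = 1 → a ^ n = 1 := fun n hn => by
    rwa [conj_pow, conj_eq_one_iff] at hn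
  rcases pow_two_or_three hS hA hB hBA heq h hE hDE hs hAs ha' with h' | h'
  · exact ⟨orderOf_pos_iff.2 (isOfFinOrder_iff_pow_eq_one.2 ⟨2, two_pos, he 2 h'⟩),
      (orderOf_le_of_pow_eq_one two_pos (he 2 h')).trans (by norm_num)⟩
  · exact ⟨orderOf_pos_iff.2 (isOfFinOrder_iff_pow_eq_one.2 ⟨3, three_pos, he 3 h'⟩),
      orderOf_le_of_pow_eq_one three_pos (he 3 h')⟩

/-- Commutators in the group of a block meet the members trivially. -/
theorem commutator_eq_one (hA : A ∈ S) {u v : G} (hu : u ∈ Xb S A) (hv : v ∈ Xb S A) (hc : ⁅u, v⁆ ∈ A) :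
    ⁅u, v⁆ = 1 := by
  obtain ⟨D, h⟩ := exists_nbr hS hA
  have hex : ∀ y : Xb S A, ∃ a : A, Eqv S (cj D a) (cj D y) := fun y => by
    obtain ⟨a', ha', he⟩ := h.orbit hS hA y.2 (one_mem A)
    rw [one_mul] at he
    exact ⟨⟨a', ha'⟩, he⟩
  choose f hf using hex
  have hmul : ∀ y z, f (y * z) = f y * f z := by
    intro y z
    apply Subtype.ext
    refine h.unique hS hA (f (y * z)).2 (f y * f z).2 ((hf (y * z)).trans ?_)
    have h1 : (f z : G)⁻¹ ∈ Xb S A := inv_mem (mem_xb hS hA rfl (f z).2)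
    have h2 : Eqv S (cj D (z * (f z : G)⁻¹)) D := by
      have h3 := (show Eqv S (cj D z) (cj D (f z)) from (hf z).symm).cj hS (f z : G)⁻¹
      rwa [cj_cancel, cj_cj] at h3
    have h4 := (h.fix_orbit hS hA (mul_mem z.2 h1) h2 (f y).2).cj hS (f z : G)
    rw [cj_cj, cj_cj, mul_assoc, inv_mul_cancel_right] at h4
    refine Eq.trans ?_ h4
    have h5 := (show Eqv S (cj D y) (cj D (f y)) from (hf y).symm).cj hS (z : G)
    rwa [cj_cj, cj_cj] at h5
  let F : Xb S A →* A := MonoidHom.mk' f hmul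
  have h1 : F ⟨⁅u, v⁆, by rw [commutatorElement_def]; exact mul_mem (mul_mem (mul_mem hu hv) (inv_mem hu)) (inv_mem hv)⟩ = 1 := by
    have e : (⟨⁅u, v⁆, by rw [commutatorElement_def]; exact mul_mem (mul_mem (mul_mem hu hv) (inv_mem hu)) (inv_mem hv)⟩ : Xb S A) =
        ⁅(⟨u, hu⟩ : Xb S A), (⟨v, hv⟩ : Xb S A)⁆ := Subtype.ext rfl
    rw [e, map_commutatorElement, commutatorElement_eq_one_iff_mul_comm]
    exact (hS.abel A hA).is_comm.comm _ _
  have h2 := hf ⟨⁅u, v⁆, by rw [commutatorElement_def]; exact mul_mem (mul_mem (mul_mem hu hv) (inv_mem hu)) (inv_mem hv)⟩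
  have h3 : Eqv S (cj D (1 : G)) (cj D ⁅u, v⁆) := by
    have h1' : f _ = 1 := h1
    rw [h1'] at h2
    exact h2
  exact (h.unique hS hA (one_mem A) hc h3).symm

omit hS in
/-- An image of `SL₂(k)` has a non-trivial commutator in its upper unitriangular subgroup. -/
theorem exists_commutator_ne_one {k : Type*} [Field k] (hk : 3 < ENat.card k) {A₀ B₀ : Subgroup G}
    (h : IsPSL2PairOver k A₀ B₀) :
    ∃ u ∈ A₀ ⊔ B₀, ∃ v ∈ A₀ ⊔ B₀, ⁅u, v⁆ ∈ A₀ ∧ ⁅u, v⁆ ≠ 1 := by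
  obtain ⟨φ, hr, hker, hup, -⟩ := h
  obtain ⟨t, ht, ht2⟩ : ∃ t : k, t ≠ 0 ∧ t ^ 2 ≠ 1 := by
    by_contra hcon
    push Not at hcon
    apply not_le.2 hk
    rw [← Set.encard_univ]
    calc (Set.univ : Set k).encard ≤ ({0, 1, -1} : Set k).encard := by
          refine Set.encard_le_encard fun x _ => ?_
          by_cases hx : x = 0
          · simp [hx]
          · rcases sq_eq_one_iff.1 (hcon x hx) with e | e <;> simp [e]
      _ ≤ 3 := (Set.encard_insert_le _ _).trans (by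
          rw [show (3 : ℕ∞) = 2 + 1 from rfl]
          gcongr
          exact (Set.encard_insert_le _ _).trans (by rw [Set.encard_singleton]; rfl))
  let d : Matrix.SpecialLinearGroup (Fin 2) k := ⟨!![t, 0; 0, t⁻¹], by simp [Matrix.det_fin_two_of, ht]⟩
  let v : Matrix.SpecialLinearGroup (Fin 2) k := ⟨!![1, 1; 0, 1], by simp [Matrix.det_fin_two_of]⟩
  let w : Matrix.SpecialLinearGroup (Fin 2) k := ⟨!![1, t ^ 2 - 1; 0, 1], by simp [Matrix.det_fin_two_of]⟩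
  let l : Matrix.SpecialLinearGroup (Fin 2) k := ⟨!![1, 0; 1, 1], by simp [Matrix.det_fin_two_of]⟩
  have e : ⁅d, v⁆ = w := by
    rw [commutatorElement_def, mul_inv_eq_iff_eq_mul, mul_inv_eq_iff_eq_mul]
    apply Subtype.ext
    show (!![t, 0; 0, t⁻¹] * !![1, 1; 0, 1] : Matrix (Fin 2) (Fin 2) k) =
      !![1, t ^ 2 - 1; 0, 1] * !![1, 1; 0, 1] * !![t, 0; 0, t⁻¹]
    rw [Matrix.mul_fin_two, Matrix.mul_fin_two, Matrix.mul_fin_two]
    ext i j
    fin_cases i <;> fin_cases j <;> simp <;> field_simp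
  have hw : φ w ∈ A₀ := by
    rw [← hup]
    exact Subgroup.mem_map_of_mem φ (Subgroup.subset_closure ⟨by simp [w], by simp [w], by simp [w]⟩)
  have hrange : ∀ y, φ y ∈ A₀ ⊔ B₀ := fun y => hr.le ⟨y, rfl⟩
  refine ⟨φ d, hrange d, φ v, hrange v, by rwa [← map_commutatorElement, e], fun e1 => ?_⟩
  rw [← map_commutatorElement, e] at e1
  have h1 := congrArg (fun M => M.1 0 0) (Subgroup.mem_center_iff.1 (hker (MonoidHom.mem_ker.2 e1)) l)
  have h2 : (!![1, 0; 1, 1] * !![1, t ^ 2 - 1; 0, 1] : Matrix (Fin 2) (Fin 2) k) 0 0 =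
      (!![1, t ^ 2 - 1; 0, 1] * !![1, 0; 1, 1] : Matrix (Fin 2) (Fin 2) k) 0 0 := h1
  rw [Matrix.mul_fin_two, Matrix.mul_fin_two] at h2
  simp at h2
  exact ht2 h2.symm

/-- **All pairs are special.** -/
theorem special_of_deg (hH : (∀ P ∈ S, ∀ a ∈ P, 0 < orderOf a ∧ orderOf a ≤ 3) →
      ∀ P ∈ S, ∀ Q ∈ rankOnePartners S P, ∃ A₀ B₀ : Subgroup G, A₀ ≤ P ∧ B₀ ≤ Q ∧
        ∃ (k : Type u) (_ : Field k), 3 < ENat.card k ∧ IsPSL2PairOver k A₀ B₀)
    (hA : A ∈ S) (hB : B ∈ S) (hAB : IsRankOnePair A B) : IsSpecialRankOnePair A B := by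
  by_cases heq : Eqv S A B
  · exfalso
    obtain ⟨A₀, B₀, hA₀, hB₀, k, _, hk, hp⟩ :=
      hH (orderOf_le hS hA hB hAB.ne.symm heq) A hA B ⟨hB, hAB⟩
    obtain ⟨u, hu, v, hv, hc, hc1⟩ := exists_commutator_ne_one hk hp
    have hle : A₀ ⊔ B₀ ≤ Xb S A := sup_le (fun x hx => mem_xb hS hA rfl (hA₀ hx))
      (fun x hx => mem_xb hS hB heq (hB₀ hx))
    exact hc1 (commutator_eq_one hS hA (hle hu) (hle hv) (hA₀ hc))
  · exact Nbr.special hS hA ⟨hB, hAB, heq⟩

end CfsgLib.RootSpecial
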