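import Cfsg.Agent.Lib.RootSpecial.Good

/-!
Degenerate root subgroup sets: blocks of members with equal sets of commuting partners.

* `Nbr S A D`: `D` forms a rank one pair with `A` and is in another block; then the pair is special;
* `exists_nbr`, `Nbr.regular`, `Nbr.exists_perp`: neighbours exist, act regularly, and have commuting neighbours;
* `Nbr.exists_moving`: the group of the block of a neighbour moves `A` onto every member of its block;
* `Nbr.orbit`: the group of a block maps the orbit of a neighbour to itself, as an abelian group.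
-/

set_option autoImplicit false
set_option linter.unusedSectionVars false

namespace CfsgLib.RootSpecial

open Cfsg CfsgLib.RootSub

universe u

variable {G : Type u} [Group G]

/-- The other members commuting with `P`. -/
def Perp (S : Set (Subgroup G)) (P : Subgroup G) : Set (Subgroup G) := {E | E ∈ S ∧ E ≠ P ∧ Comm P E}

/-- Equal sets of commuting partners. -/
def Eqv (S : Set (Subgroup G)) (P Q : Subgroup G) : Prop := Perp S P = Perp S Q

/-- A rank one partner in another block. -/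
def Nbr (S : Set (Subgroup G)) (A D : Subgroup G) : Prop := D ∈ S ∧ IsRankOnePair A D ∧ ¬ Eqv S A D

/-- The group generated by a block. -/
def Xb (S : Set (Subgroup G)) (A : Subgroup G) : Subgroup G :=
  Subgroup.closure {x | ∃ P ∈ S, Eqv S A P ∧ x ∈ P}

/-- A degenerate class with commuting members. -/
structure Deg (S : Set (Subgroup G)) : Prop where
  conj : ∀ P ∈ S, ∀ g : G, cj P g ∈ S
  pair : ∀ P ∈ S, ∀ Q ∈ S, Comm P Q ∨ IsRankOnePair P Q
  cls : ∀ P ∈ S, ∀ Q ∈ S, ∃ g : G, Q = cj P g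
  gen : (⨆ P ∈ S, P) = ⊤
  perp : ∀ P ∈ S, ∃ C, C ∈ Perp S P
  abel : ∀ P ∈ S, IsMulCommutative P

variable {S : Set (Subgroup G)} (hS : Deg S) {A B D E P Q : Subgroup G}
include hS

theorem perp_symm (hP : P ∈ S) (h : E ∈ Perp S P) : P ∈ Perp S E := ⟨hP, Ne.symm h.2.1, h.2.2.symm⟩

theorem perp_cj {g : G} : E ∈ Perp S (cj P g) ↔ cj E g⁻¹ ∈ Perp S P := by
  constructor
  · rintro ⟨hE, hne, hc⟩
    refine ⟨hS.conj _ hE _, fun e => hne ?_, ?_⟩
    · rw [← e, cj_cj, inv_mul_cancel, cj_one]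
    · have := hc.cj g⁻¹
      rwa [cj_cancel] at this
  · rintro ⟨hE, hne, hc⟩
    have hE' : cj (cj E g⁻¹) g = E := by rw [cj_cj, inv_mul_cancel, cj_one]
    refine ⟨hE' ▸ hS.conj _ hE g, fun e => hne ?_, ?_⟩
    · rw [e, cj_cancel]
    · have := hc.cj g
      rwa [hE'] at this

theorem Eqv.cj (h : Eqv S P Q) (g : G) : Eqv S (RootSpecial.cj P g) (RootSpecial.cj Q g) := by
  ext E
  rw [perp_cj hS, perp_cj hS, show Perp S P = Perp S Q from h]

theorem not_comm_of_eqv (hQ : Q ∈ S) (h : Eqv S P Q) (hne : P ≠ Q) : ¬ Comm P Q := fun hc => by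
  have h1 : Q ∈ Perp S Q := by rw [← show Perp S P = Perp S Q from h]; exact ⟨hQ, hne.symm, hc⟩
  exact h1.2.1 rfl

theorem pair_of_eqv (hP : P ∈ S) (hQ : Q ∈ S) (h : Eqv S P Q) (hne : P ≠ Q) : IsRankOnePair P Q :=
  (hS.pair P hP Q hQ).resolve_left (not_comm_of_eqv hS hQ h hne)

/-- A pair without a commuting third member is in one block. -/
theorem eqv_of_perp_comm (hA : A ∈ S) (hB : B ∈ S) (h : IsRankOnePair A B)
    (hc : ∀ C ∈ Perp S A, Comm B C) : Eqv S A B := by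
  obtain ⟨x, hx, e⟩ := mem_unipotent_iff.1 (right_mem_unipotent h)
  have hx' : ∀ C ∈ Perp S A, cj C x = C := fun C hC => by
    refine conjBy_eq_self_iff.2 (inv_mem (mem_normalizer_of_commute_all fun c hc' => ?_))
    have hle : A ⊔ B ≤ Subgroup.centralizer ({c} : Set G) := sup_le
      (fun a ha => Subgroup.mem_centralizer_singleton_iff.2 (hC.2.2 a ha c hc'))
      (fun b hb => Subgroup.mem_centralizer_singleton_iff.2 (hc C hC b hb c hc'))
    exact Subgroup.mem_centralizer_singleton_iff.1 (hle hx)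
  ext C
  constructor
  · intro hC
    exact ⟨hC.1, fun e' => not_comm h (e' ▸ hC.2.2), hc C hC⟩
  · intro hC
    rw [show B = cj A x⁻¹ by rw [e, cj, inv_inv], perp_cj hS, inv_inv] at hC
    have h1 := hx' _ hC
    rw [cj_cj] at h1
    rwa [show cj C x = C from cj_inj (g := x) (by rw [cj_cj]; exact h1)] at hC

theorem Nbr.exists_good (hA : A ∈ S) (h : Nbr S A D) : ∃ C ∈ Perp S A, IsRankOnePair D C := by
  by_contra hcon
  push Not at hcon
  exact h.2.2 (eqv_of_perp_comm hS hA h.1 h.2.1 fun C hC => (hS.pair D h.1 C hC.1).resolve_right (hcon C hC))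

theorem Nbr.symm (hA : A ∈ S) (h : Nbr S A D) : Nbr S D A :=
  ⟨hA, RankOnePair_symm h.2.1, fun e => h.2.2 e.symm⟩

theorem Nbr.special (hA : A ∈ S) (h : Nbr S A D) : IsSpecialRankOnePair A D := by
  obtain ⟨C, hC, hDC⟩ := h.exists_good hS hA
  exact RootSpecial.special h.2.1 hDC hC.2.2 hC.2.1.symm

theorem Nbr.of_eqv (hP : P ∈ S) (he : Eqv S A P) (h : Nbr S A D) (hA : A ∈ S) : Nbr S P D := by
  have hne : ¬ Eqv S P D := fun e => h.2.2 (he.trans e)
  refine ⟨h.1, (hS.pair P hP D h.1).resolve_left fun hc => ?_, hne⟩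
  by_cases hPD : P = D
  · exact hne (congrArg (Perp S) hPD)
  have h1 : D ∈ Perp S A := by
    rw [show Perp S A = Perp S P from he]
    exact ⟨h.1, Ne.symm hPD, hc⟩
  exact not_comm h.2.1 h1.2.2

theorem Nbr.conj_left {a : G} (ha : a ∈ A) (h : Nbr S A D) : Nbr S A (cj D a) := by
  refine ⟨hS.conj _ h.1 a, ?_, fun e => h.2.2 ?_⟩
  · have := isRankOnePair_conjBy h.2.1 a⁻¹
    rwa [show conjBy A a⁻¹ = A from cj_self ha] at this
  · have h1 := e.cj hS a⁻¹
    rwa [cj_cancel, cj_self (inv_mem ha)] at h1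

/-- Neighbours exist. -/
theorem exists_nbr (hA : A ∈ S) : ∃ D, Nbr S A D := by
  by_contra hcon
  push Not at hcon
  obtain ⟨C, hC⟩ := hS.perp A hA
  have hkey : ∀ D' ∈ S, D' = A ∨ IsRankOnePair A D' → ∀ C' ∈ Perp S A, Comm D' C' := by
    rintro D' hD' (rfl | hp) C' hC'
    · exact hC'.2.2
    · have he : Eqv S A D' := by_contra fun he => hcon D' ⟨hD', hp, he⟩
      have hC'' : C' ∈ Perp S D' := by rw [← show Perp S A = Perp S D' from he]; exact hC'
      exact hC''.2.2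
  have hinv : ∀ g : G, ∀ C' ∈ Perp S A, cj A g ≠ C' := by
    intro g
    have hg : g ∈ (⊤ : Subgroup G) := Subgroup.mem_top g
    have hP : ∀ D' ∈ S, (D' = A ∨ IsRankOnePair A D') → ∀ (P : Subgroup G), P ∈ S → ∀ p ∈ P,
        (cj D' p = A ∨ IsRankOnePair A (cj D' p)) := by
      intro D' hD' hO P hP' p hp
      by_cases hPA : P ∈ Perp S A
      · have h1 : cj D' p = D' := cj_fix (hkey D' hD' hO P hPA).symm hp
        rwa [h1]
      · have hPO : P = A ∨ IsRankOnePair A P := by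
          by_cases e : P = A
          · exact Or.inl e
          · exact Or.inr ((hS.pair A hA P hP').resolve_left fun hc => hPA ⟨hP', e, hc⟩)
        by_cases e : cj D' p = A
        · exact Or.inl e
        refine Or.inr ((hS.pair A hA _ (hS.conj _ hD' p)).resolve_left fun hc => ?_)
        have h1 : cj D' p ∈ Perp S A := ⟨hS.conj _ hD' p, e, hc⟩
        have h2 : cj (cj D' p) p⁻¹ = cj D' p := cj_fix (hkey P hP' hPO _ h1) (inv_mem hp)
        rw [cj_cancel] at h2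
        rw [← h2] at h1
        rcases hO with rfl | hp'
        · exact h1.2.1 rfl
        · exact not_comm hp' h1.2.2
    suffices h : ∀ D' ∈ S, (D' = A ∨ IsRankOnePair A D') →
        (cj D' g = A ∨ IsRankOnePair A (cj D' g)) ∧ (cj D' g⁻¹ = A ∨ IsRankOnePair A (cj D' g⁻¹)) by
      intro C' hC' e
      rcases (h A hA (Or.inl rfl)).1 with e' | hp
      · exact hC'.2.1 (e.symm.trans e')
      · exact not_comm hp (e ▸ hC'.2.2)
    rw [← hS.gen, iSup_subtype', Subgroup.iSup_eq_closure] at hg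
    induction hg using Subgroup.closure_induction with
    | mem x hx =>
      obtain ⟨P, hxP⟩ := Set.mem_iUnion.1 hx
      exact fun D' hD' hO => ⟨hP D' hD' hO P.1 P.2 x hxP, hP D' hD' hO P.1 P.2 _ (inv_mem hxP)⟩
    | one => intro D' _ hO; simp only [inv_one, cj_one]; exact ⟨hO, hO⟩
    | mul x y _ _ ihx ihy =>
      intro D' hD' hO
      refine ⟨?_, ?_⟩
      · rw [← cj_cj]; exact (ihy _ (hS.conj _ hD' x) (ihx D' hD' hO).1).1
      · rw [mul_inv_rev, ← cj_cj]; exact (ihx _ (hS.conj _ hD' _) (ihy D' hD' hO).2).2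
    | inv x _ ih => intro D' hD' hO; rw [inv_inv]; exact (ih D' hD' hO).symm
  obtain ⟨g, hg⟩ := hS.cls A hA C hC.1
  exact hinv g C hC hg.symm

/-- A neighbour is moved off its block. -/
theorem Nbr.regular (hA : A ∈ S) (h : Nbr S A D) {a : G} (ha : a ∈ A) (he : Eqv S D (cj D a)) : a = 1 := by
  by_contra ha1
  obtain ⟨F, hF, hAF⟩ := (h.symm hS hA).exists_good hS h.1
  have hF' : F ∈ Perp S (cj D a) := he ▸ hF
  refine not_comm (RankOnePair_symm hAF) ?_
  refine comm_of_two h.2.1 (right_mem_unipotent h.2.1) (cj_mem_unipotent h.2.1 ha) (fun e => ha1 ?_)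
    hF.2.2.symm hF'.2.2.symm
  exact inv_eq_one.1 (eq_one_of_normalizes h.2.1 (inv_mem ha) (conjBy_eq_self_iff.1 e.symm))

theorem Nbr.unique (hA : A ∈ S) (h : Nbr S A D) {a a' : G} (ha : a ∈ A) (ha' : a' ∈ A)
    (he : Eqv S (cj D a) (cj D a')) : a = a' := by
  have h1 := he.cj hS a⁻¹
  rw [cj_cancel, cj_cj] at h1
  exact (mul_inv_eq_one.1 (h.regular hS hA (mul_mem ha' (inv_mem ha)) h1)).symm

/-- The orbit of a neighbour meets the images by the block. -/
theorem Nbr.orbit_block (hA : A ∈ S) (h : Nbr S A D) (hP : P ∈ S) (he : Eqv S A P) {p : G} (hp : p ∈ P) :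
    ∃ a ∈ A, Eqv S (cj D a) (cj D p) := by
  by_cases hp1 : p = 1
  · exact ⟨1, one_mem _, by rw [hp1]; rfl⟩
  obtain ⟨d, hd⟩ := Special.exists_corr (h.of_eqv hS hP he hA).2.1 hp hp1
  obtain ⟨a, ha⟩ := Special.exists_corr (RankOnePair_symm h.2.1) hd.2.2.1 hd.2.2.2.1
  refine ⟨a, ha.2.2.1, ?_⟩
  rw [show cj D a = cj A d from ha.2.2.2.2, show cj D p = cj P d from hd.2.2.2.2.symm]
  exact he.cj hS d

/-- A neighbour commuting with a neighbour. -/
theorem Nbr.exists_perp (hA : A ∈ S) (h : Nbr S A D) : ∃ E, Nbr S A E ∧ E ∈ Perp S D := by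
  obtain ⟨C, hC, hDC⟩ := h.exists_good hS hA
  obtain ⟨⟨a, ha⟩, hne⟩ := Subgroup.ne_bot_iff_exists_ne_one.mp (ne_bot_left h.2.1)
  have ha1 : a ≠ 1 := fun e => hne (Subtype.ext e)
  obtain ⟨b, hb⟩ := Special.exists_corr h.2.1 ha ha1
  obtain ⟨e, he, -, hn, -, -⟩ := displaced h.2.1 hDC hC.2.2 hC.2.1.symm hb
  have hAn : cj A (e * a⁻¹) = A := by rw [← cj_cj, cj_fix hC.2.2.symm he.1, cj_self (inv_mem ha)]
  have hne' : cj D (e * a⁻¹) ≠ D := fun e' => ha1 (lines_meet h.2.1 hDC hC.2.2 hC.2.1.symm ha he.1 (by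
    conv_lhs => rw [← e', cj_cj, inv_mul_cancel_right]))
  have hperp : cj D (e * a⁻¹) ∈ Perp S D := ⟨hS.conj _ h.1 _, hne', hn.symm⟩
  refine ⟨_, ⟨hS.conj _ h.1 _, ?_, fun e' => ?_⟩, hperp⟩
  · have := isRankOnePair_conjBy h.2.1 (e * a⁻¹)⁻¹
    rwa [show conjBy A (e * a⁻¹)⁻¹ = A from hAn] at this
  · have h1 : D ∈ Perp S A := by
      rw [show Perp S A = Perp S (cj D (e * a⁻¹)) from e']
      exact perp_symm hS h.1 hperp
    exact not_comm h.2.1 h1.2.2

theorem Eqv.xb (h : Eqv S A B) : Xb S A = Xb S B := by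
  unfold Xb Eqv at *
  rw [h]

theorem mem_xb (hP : P ∈ S) (he : Eqv S A P) {x : G} (hx : x ∈ P) : x ∈ Xb S A :=
  Subgroup.subset_closure ⟨P, hP, he, hx⟩

theorem xb_comm {y : G} (hy : y ∈ Xb S A) (hE : E ∈ Perp S A) {e : G} (he : e ∈ E) : Commute y e := by
  have hle : Xb S A ≤ Subgroup.centralizer ({e} : Set G) := by
    rw [Xb, Subgroup.closure_le]
    rintro x ⟨P, -, hPe, hxP⟩
    have hE' : E ∈ Perp S P := by rw [← show Perp S A = Perp S P from hPe]; exact hE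
    exact Subgroup.mem_centralizer_singleton_iff.2 (hE'.2.2 x hxP e he)
  exact Subgroup.mem_centralizer_singleton_iff.1 (hle hy)

theorem xb_fix {y : G} (hy : y ∈ Xb S A) (hE : E ∈ Perp S A) : cj E y = E :=
  conjBy_eq_self_iff.2 (inv_mem (mem_normalizer_of_commute_all fun e he => (xb_comm hS hy hE he).eq))

theorem xb_eqv {y : G} (hy : y ∈ Xb S A) : Eqv S (cj A y) A := by
  refine (?_ : Eqv S (cj A y) A ∧ Eqv S (cj A y⁻¹) A).1
  unfold Xb at hy
  induction hy using Subgroup.closure_induction with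
  | mem x hx =>
    obtain ⟨P, hP, hPe, hxP⟩ := hx
    refine ⟨?_, ?_⟩
    · exact (hPe.cj hS x).trans (by rw [cj_self hxP]; exact hPe.symm)
    · exact (hPe.cj hS x⁻¹).trans (by rw [cj_self (inv_mem hxP)]; exact hPe.symm)
  | one => simp only [inv_one, cj_one]; exact ⟨rfl, rfl⟩
  | mul x z _ _ ihx ihz =>
    refine ⟨?_, ?_⟩
    · rw [← cj_cj]; exact (ihx.1.cj hS z).trans ihz.1
    · rw [mul_inv_rev, ← cj_cj]; exact (ihz.2.cj hS x⁻¹).trans ihx.2
  | inv x _ ih => rw [inv_inv]; exact ih.symm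

theorem xb_conj {y : G} (hy : y ∈ Xb S A) (g : G) : g⁻¹ * y * g ∈ Xb S (cj A g) := by
  have hle : (Xb S A).map (MulAut.conj g⁻¹).toMonoidHom ≤ Xb S (cj A g) := by
    rw [Xb, MonoidHom.map_closure, Subgroup.closure_le]
    rintro _ ⟨x, ⟨P, hP, hPe, hxP⟩, rfl⟩
    exact mem_xb hS (hS.conj _ hP g) (hPe.cj hS g) ⟨x, hxP, rfl⟩
  have := hle ⟨y, hy, rfl⟩
  simpa using this

/-- The group of the block of a neighbour moves `A` onto every other member of its block. -/
theorem Nbr.exists_moving (hA : A ∈ S) (h : Nbr S A E) (hB : B ∈ S) (he : Eqv S A B) :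
    ∃ ρ ∈ Xb S E, cj A ρ = B := by
  obtain ⟨⟨a, ha⟩, hne⟩ := Subgroup.ne_bot_iff_exists_ne_one.mp (ne_bot_left h.2.1)
  have ha1 : a ≠ 1 := fun e => hne (Subtype.ext e)
  have hD : Nbr S A (cj E a) := h.conj_left hS ha
  obtain ⟨d, hd⟩ := Special.exists_corr hD.2.1 ha ha1
  obtain ⟨β, hβ⟩ := Special.exists_corr (RankOnePair_symm (hD.of_eqv hS hB he hA).2.1) hd.2.2.1 hd.2.2.2.1
  have hflip : cj A d⁻¹ = E := by
    have h1 := Special.corr_flip (hD.special hS hA) hd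
    rw [show conjBy A d = cj A d⁻¹ by rw [cj, inv_inv],
      show conjBy (cj E a) a = cj (cj E a) a⁻¹ from by simp only [cj, inv_inv], cj_cancel] at h1
    exact h1
  refine ⟨d⁻¹⁻¹ * (a⁻¹ * β) * d⁻¹, ?_, ?_⟩
  · exact hflip ▸ xb_conj hS (mul_mem (inv_mem (mem_xb hS hA rfl ha)) (mem_xb hS hB he hβ.2.2.1)) d⁻¹
  · rw [inv_inv, ← cj_cj, ← cj_cj, show cj A d = cj (cj E a) a from hd.2.2.2.2, ← cj_cj _ β, cj_cancel,
      show cj (cj E a) β = cj B d from hβ.2.2.2.2, cj_cancel]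

/-- The block maps the orbit of a neighbour to itself. -/
theorem Nbr.orbit (hA : A ∈ S) (h : Nbr S A D) {y : G} (hy : y ∈ Xb S A) {a : G} (ha : a ∈ A) :
    ∃ a' ∈ A, Eqv S (cj D a') (cj D (a * y)) := by
  suffices hs : ∀ a ∈ A, (∃ a' ∈ A, Eqv S (cj D a') (cj D (a * y))) ∧
      ∃ a' ∈ A, Eqv S (cj D a') (cj D (a * y⁻¹)) from (hs a ha).1
  have hgen : ∀ P ∈ S, Eqv S A P → ∀ p ∈ P, ∀ a ∈ A, ∃ a' ∈ A, Eqv S (cj D a') (cj D (a * p)) := by
    intro P hP he p hp a ha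
    have he' : Eqv S A (cj P a⁻¹) := by
      have := he.cj hS a⁻¹
      rwa [cj_self (inv_mem ha)] at this
    have hp' : a * p * a⁻¹ ∈ cj P a⁻¹ := by
      have := mem_cj (g := a⁻¹) hp
      rwa [inv_inv] at this
    obtain ⟨c, hc, hce⟩ := h.orbit_block hS hA (hS.conj _ hP _) he' hp'
    refine ⟨c * a, mul_mem hc ha, ?_⟩
    have h1 := hce.cj hS a
    rwa [cj_cj, cj_cj, inv_mul_cancel_right] at h1
  clear ha a
  unfold Xb at hy
  induction hy using Subgroup.closure_induction with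
  | mem x hx =>
    obtain ⟨P, hP, hPe, hxP⟩ := hx
    exact fun a ha => ⟨hgen P hP hPe x hxP a ha, hgen P hP hPe _ (inv_mem hxP) a ha⟩
  | one => intro a ha; simp only [inv_one, mul_one]; exact ⟨⟨a, ha, rfl⟩, ⟨a, ha, rfl⟩⟩
  | mul x z _ _ ihx ihz =>
    intro a ha
    refine ⟨?_, ?_⟩
    · obtain ⟨c, hc, hce⟩ := (ihx a ha).1
      obtain ⟨c', hc', hce'⟩ := (ihz c hc).1
      refine ⟨c', hc', hce'.trans ?_⟩
      have h1 := hce.cj hS z
      rwa [cj_cj, cj_cj, mul_assoc] at h1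
    · obtain ⟨c, hc, hce⟩ := (ihz a ha).2
      obtain ⟨c', hc', hce'⟩ := (ihx c hc).2
      refine ⟨c', hc', hce'.trans ?_⟩
      have h1 := hce.cj hS x⁻¹
      rwa [cj_cj, cj_cj, mul_assoc, ← mul_inv_rev] at h1
  | inv x _ ih => intro a ha; rw [inv_inv]; exact (ih a ha).symm

/-- What fixes the block of a neighbour fixes its orbit. -/
theorem Nbr.fix_orbit (hA : A ∈ S) (h : Nbr S A D) {z : G} (hz : z ∈ Xb S A) (hfix : Eqv S (cj D z) D)
    {a : G} (ha : a ∈ A) : Eqv S (cj D (a * z)) (cj D a) := by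
  by_cases ha1 : a = 1
  · rw [ha1, one_mul, cj_one]; exact hfix
  obtain ⟨C, hC, hDC⟩ := h.exists_good hS hA
  obtain ⟨b, hb⟩ := Special.exists_corr h.2.1 ha ha1
  obtain ⟨e, he, hc⟩ := exists_partner h.2.1 hDC hC.2.2 hC.2.1.symm hb
  obtain ⟨a', ha', hae⟩ := h.orbit hS hA hz ha
  have hne : cj D a ≠ cj D e := fun e' => ha1 (lines_meet h.2.1 hDC hC.2.2 hC.2.1.symm ha he.1 e')
  have h1 : cj D (a * z) ∈ Perp S (cj D e) := by
    have h2 : cj D (a * z) ∈ Perp S (cj (cj D e) z) :=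
      (perp_cj hS).2 (by rw [← cj_cj, cj_cancel]; exact ⟨hS.conj _ h.1 a, hne, hc.symm⟩)
    have h3 : Eqv S (cj (cj D e) z) (cj D e) := by
      rw [cj_cj, ← (xb_comm hS hz hC he.1).eq, ← cj_cj]
      exact hfix.cj hS e
    rwa [show Perp S (cj (cj D e) z) = Perp S (cj D e) from h3] at h2
  have h4 : cj D e ∈ Perp S (cj D a') := by
    rw [show Perp S (cj D a') = Perp S (cj D (a * z)) from hae]
    exact perp_symm hS (hS.conj _ h.1 e) h1
  have h5 : cj D a' = cj D a := by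
    refine line_unique (P := cj D e) (fun hc' => not_comm h.2.1 ?_) h.2.1 (cj_mem_unipotent h.2.1 ha')
      (cj_mem_unipotent h.2.1 ha) h4.2.2.symm hc.symm
    have h6 := hc'.symm.cj e⁻¹
    rwa [cj_fix hC.2.2.symm (inv_mem he.1), cj_cancel] at h6
  rw [← h5]
  exact hae.symm

end CfsgLib.RootSpecial
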