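import Cfsg.Agent.Lib.RootSub.RankOne
import Cfsg.Agent.Lib.RootSub.Central
import Cfsg.Agent.Lib.RootSub.Special

/-!
A rank one pair `A`, `B` with a member `C` commuting with `A` and forming a rank one pair with `B` is special.

In right notation: for `a ∈ A` with `A ^ b = B ^ a` let `e ∈ C` with `C ^ b = B ^ e`.  Then `B ^ (e a⁻¹)` commutes
with `B`; the swap `μ = b a⁻¹ b'⁻¹` (`b'` belonging to `a⁻¹`) sends `a` to `b'`, and the same at `a⁻¹` gives
`b' = b⁻¹`, hence `b⁻¹ a b = a⁻¹ b⁻¹ a`.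
-/

set_option autoImplicit false
set_option linter.unusedSectionVars false

namespace CfsgLib.RootSpecial

open Cfsg CfsgLib.RootSub

universe u

variable {G : Type u} [Group G] {A B C P Q R : Subgroup G}

/-- The conjugate `A ^ g = g⁻¹ A g`. -/
abbrev cj (A : Subgroup G) (g : G) : Subgroup G := conjBy A g⁻¹

theorem cj_cj (g h : G) : cj (cj A g) h = cj A (g * h) := by
  rw [cj, cj, cj, conjBy_conjBy, mul_inv_rev]

theorem cj_one : cj A (1 : G) = A := by rw [cj, inv_one, conjBy_one]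

theorem cj_cancel (g : G) : cj (cj A g) g⁻¹ = A := by rw [cj_cj, mul_inv_cancel, cj_one]

theorem cj_inj {g : G} (h : cj A g = cj B g) : A = B := conjBy_injective g⁻¹ h

theorem cj_self {g : G} (hg : g ∈ A) : cj A g = A := conjBy_self (inv_mem hg)

theorem mem_cj {g x : G} (hx : x ∈ A) : g⁻¹ * x * g ∈ cj A g := by
  rw [cj, conjBy_mem_iff]
  simpa [mul_assoc] using hx

/-- Elementwise commuting subgroups. -/
def Comm (A B : Subgroup G) : Prop := ∀ a ∈ A, ∀ b ∈ B, a * b = b * a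

theorem Comm.symm (h : Comm A B) : Comm B A := fun b hb a ha => (h a ha b hb).symm

theorem Comm.cj (h : Comm A B) (g : G) : Comm (cj A g) (cj B g) := by
  intro x hx y hy
  rw [RootSpecial.cj, conjBy_mem_iff] at hx hy
  have h1 := h _ hx _ hy
  calc x * y = g⁻¹ * ((g⁻¹⁻¹ * x * g⁻¹) * (g⁻¹⁻¹ * y * g⁻¹)) * g := by group
    _ = g⁻¹ * ((g⁻¹⁻¹ * y * g⁻¹) * (g⁻¹⁻¹ * x * g⁻¹)) * g := by rw [h1]
    _ = y * x := by group

theorem cj_fix (h : Comm A B) {g : G} (hg : g ∈ A) : RootSpecial.cj B g = B :=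
  conjBy_eq_self_iff.2 (inv_mem (mem_normalizer_of_commute_all fun b hb => h g hg b hb))

theorem not_comm (h : IsRankOnePair A B) : ¬ Comm A B := fun hc => by
  obtain ⟨⟨a, ha⟩, ha1⟩ := Subgroup.ne_bot_iff_exists_ne_one.mp (ne_bot_left h)
  obtain ⟨⟨b, hb⟩, hb1⟩ := Subgroup.ne_bot_iff_exists_ne_one.mp (ne_bot_left (RankOnePair_symm h))
  exact not_commute h ha (fun e => ha1 (Subtype.ext e)) hb (fun e => hb1 (Subtype.ext e)) (hc a ha b hb)

theorem cj_mem_unipotent (h : IsRankOnePair A B) {a : G} (ha : a ∈ A) : cj B a ∈ unipotentSubgroups A B :=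
  conjBy_right_mem h (inv_mem ha)

/-- The members of a line other than `C` are the `B ^ e`; they do not commute with each other. -/
theorem line_comm (h : IsRankOnePair B C) {e e' : G} (he : e ∈ C) (he' : e' ∈ C)
    (hc : Comm (cj B e) (cj B e')) : e = e' := by
  by_contra hne
  have hm : e' * e⁻¹ ≠ 1 := fun h1 => hne (mul_inv_eq_one.1 h1).symm
  have h1 := hc.cj e⁻¹
  rw [cj_cancel, cj_cj] at h1
  obtain ⟨b', hb', -, eq⟩ := h.cond_right _ (mul_mem he' (inv_mem he)) hm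
  rw [show cj B (e' * e⁻¹) = cj C b' from eq.symm] at h1
  have h2 := h1.cj b'⁻¹
  rw [cj_cancel, cj_self (inv_mem hb')] at h2
  exact not_comm h h2

/-- Two members of a line commuting with `P` make the whole line commute with `P`. -/
theorem comm_of_two (h : IsRankOnePair B C) (hQ : Q ∈ unipotentSubgroups B C) (hR : R ∈ unipotentSubgroups B C)
    (hne : Q ≠ R) (h1 : Comm P Q) (h2 : Comm P R) : Comm P B := by
  obtain ⟨x, hx, rfl, rfl⟩ := exists_map_pair h hQ hR hne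
  have hxn : conjBy (B ⊔ C) x = B ⊔ C := conjBy_self hx
  rw [conjBy, Subgroup.map_sup] at hxn
  intro p hp b hb
  have hb' : b ∈ conjBy B x ⊔ conjBy C x := hxn.ge (Subgroup.mem_sup_left hb)
  have hle : conjBy B x ⊔ conjBy C x ≤ Subgroup.centralizer ({p} : Set G) := by
    refine sup_le (fun y hy => ?_) fun y hy => ?_
    · exact Subgroup.mem_centralizer_singleton_iff.2 (h1 p hp y hy).symm
    · exact Subgroup.mem_centralizer_singleton_iff.2 (h2 p hp y hy).symm
  exact (Subgroup.mem_centralizer_singleton_iff.1 (hle hb')).symm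

theorem line_unique (hP : ¬ Comm P B) (h : IsRankOnePair B C) (hQ : Q ∈ unipotentSubgroups B C)
    (hR : R ∈ unipotentSubgroups B C) (h1 : Comm P Q) (h2 : Comm P R) : Q = R := by
  by_contra hne
  exact hP (comm_of_two h hQ hR hne h1 h2)

section Good

variable (hAB : IsRankOnePair A B) (hBC : IsRankOnePair B C) (hAC : Comm A C) (hne : A ≠ C)
include hAB hBC hAC hne

/-- The member of the line of `C` commuting with `B ^ a`. -/
theorem exists_partner {a b : G} (hc : Special.Corr A B a b) :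
    ∃ e, Special.Corr C B e b ∧ Comm (cj B a) (cj B e) := by
  obtain ⟨e, he⟩ := Special.exists_corr hBC hc.2.2.1 hc.2.2.2.1
  refine ⟨e, Special.corr_symm he, ?_⟩
  have h1 := hAC.cj b
  rwa [show cj A b = cj B a from hc.2.2.2.2, show cj C b = cj B e from (Special.corr_symm he).2.2.2.2] at h1

/-- The lines meet in `B` only. -/
theorem lines_meet {a e : G} (ha : a ∈ A) (he : e ∈ C) (h : cj B a = cj B e) : a = 1 := by
  by_contra ha1
  obtain ⟨b, hb⟩ := Special.exists_corr hAB ha ha1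
  obtain ⟨e₀, he₀, hc⟩ := exists_partner hAB hBC hAC hne hb
  rw [h] at hc
  have := line_comm hBC he he₀.1 hc
  subst this
  exact hne (cj_inj (g := b) ((show cj A b = cj B a from hb.2.2.2.2).trans
    (h.trans (show cj C b = cj B e from he₀.2.2.2.2).symm)))

theorem partner_unique {a e e' : G} (ha : a ∈ A) (ha1 : a ≠ 1) (he : e ∈ C) (he' : e' ∈ C)
    (h : Comm (cj B a) (cj B e)) (h' : Comm (cj B a) (cj B e')) : e = e' := by
  refine conjBy_inj_left (RankOnePair_symm hBC) (inv_mem he) (inv_mem he')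
    (line_unique (P := cj B a) ?_ hBC ?_ ?_ h h') |> inv_injective
  · intro hc
    exact ha1 (line_comm (RankOnePair_symm hAB) ha (one_mem A) (by rwa [cj_one]))
  · exact conjBy_mem_unipotent (Subgroup.mem_sup_right (inv_mem he)) left_mem_unipotent
  · exact conjBy_mem_unipotent (Subgroup.mem_sup_right (inv_mem he')) left_mem_unipotent

/-- The displaced member commuting with `B`. -/
theorem displaced {a b : G} (hc : Special.Corr A B a b) :
    ∃ e, Special.Corr C B e b ∧ Comm (cj B a) (cj B e) ∧ Comm (cj B (e * a⁻¹)) B ∧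
      Comm (cj B (e⁻¹ * a)) B ∧ Comm (cj B a⁻¹) (cj B e⁻¹) := by
  obtain ⟨e, he, h⟩ := exists_partner hAB hBC hAC hne hc
  have hae : a * e = e * a := hAC a hc.1 e he.1
  have h1 := h.cj a⁻¹
  have h2 := h.cj e⁻¹
  have h3 := h.cj (a⁻¹ * e⁻¹)
  rw [cj_cancel, cj_cj] at h1 h2
  rw [cj_cj, cj_cj] at h3
  refine ⟨e, he, h, h1.symm, ?_, ?_⟩
  · rwa [show e⁻¹ * a = a * e⁻¹ from ((show Commute a e from hae).inv_right).eq.symm]
  · rw [show a * (a⁻¹ * e⁻¹) = e⁻¹ by group, show e * (a⁻¹ * e⁻¹) = a⁻¹ by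
      rw [← mul_assoc, ← ((show Commute a e from hae).inv_left).eq, mul_inv_cancel_right]] at h3
    exact h3.symm

/-- The swap sends `a` to the element belonging to `a⁻¹`. -/
theorem swap_eq {a b b' : G} (hc : Special.Corr A B a b) (hc' : Special.Corr A B a⁻¹ b') :
    b' * a * b⁻¹ = a * b⁻¹ * a := by
  obtain ⟨e, he, hce, hn, hn', hinv⟩ := displaced hAB hBC hAC hne hc
  obtain ⟨e', he', hce'⟩ := exists_partner hAB hBC hAC hne hc'
  obtain rfl : e' = e⁻¹ := partner_unique hAB hBC hAC hne hc'.1 hc'.2.1 he'.1 (inv_mem he.1) hce' hinv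
  obtain ⟨ha, ha1, hb, hb1, eab⟩ := hc
  obtain ⟨-, -, hb', -, eab'⟩ := hc'
  have hae : Commute a e := hAC a ha e he.1
  have eAb : cj A b = cj B a := eab
  have eAb' : cj A b' = cj B a⁻¹ := eab'
  have eCb : cj C b = cj B e := he.2.2.2.2
  have eCb' : cj C b' = cj B e⁻¹ := he'.2.2.2.2
  set μ := b * a⁻¹ * b'⁻¹ with hμ
  have hAμ : cj A μ = B := by
    rw [hμ, ← cj_cj, ← cj_cj, eAb, cj_cancel, cj_self (inv_mem hb')]
  have hBμ : cj B μ = A := by
    rw [hμ, ← cj_cj, ← cj_cj, cj_self hb, ← eAb', cj_cancel]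
  have hB1 : cj (cj B (e * a⁻¹)) b'⁻¹ = cj B (e * a⁻¹) := cj_fix hn.symm (inv_mem hb')
  have hCμ : cj C μ = cj B (e * a⁻¹) := by
    rw [hμ, ← cj_cj, ← cj_cj, eCb, cj_cj e, hB1]
  have hCμ' : cj C μ⁻¹ = cj B (e⁻¹ * a) := by
    rw [hμ, show (b * a⁻¹ * b'⁻¹)⁻¹ = b' * a * b⁻¹ by group, ← cj_cj, ← cj_cj, eCb', cj_cj e⁻¹,
      cj_fix hn'.symm (inv_mem hb)]
  have hC : cj B (e⁻¹ * a * μ) = C := by rw [← cj_cj, ← hCμ', cj_cj, inv_mul_cancel, cj_one]
  set β := μ⁻¹ * a * μ with hβ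
  set β₁ := μ⁻¹ * e⁻¹ * μ with hβ₁
  have hβB : β ∈ B := hAμ ▸ mem_cj ha
  have hβ1 : β ≠ 1 := fun h => ha1 (by
    rw [show a = μ * β * μ⁻¹ by rw [hβ]; group, h, mul_one, mul_inv_cancel])
  have hAβ : cj A (β * β₁) = C := by
    have h1 : cj A μ⁻¹ = B := by rw [← hBμ, cj_cancel]
    calc cj A (β * β₁) = cj (cj A μ⁻¹) ((a * e⁻¹) * μ) := by rw [cj_cj, hβ, hβ₁]; congr 1; group
      _ = cj B (e⁻¹ * a * μ) := by rw [h1, hae.inv_right.eq]
      _ = C := hC
  obtain ⟨x, hx, -, ex⟩ := hAB.cond_right β hβB hβ1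
  have exA : cj A β = cj B x := ex.symm
  set n := e * a⁻¹ with hn_def
  have hCn : cj C n = C := by
    rw [hn_def, ← cj_cj, cj_self he.1, cj_fix hAC (inv_mem ha)]
  have hβ₁B : β₁ ∈ cj B n := hCμ ▸ mem_cj (inv_mem he.1)
  set β' := n * β₁⁻¹ * n⁻¹ with hβ'
  have hβ'B : β' ∈ B := by
    have := mem_cj (g := n⁻¹) (inv_mem hβ₁B)
    rwa [cj_cancel, inv_inv] at this
  have hβ'1 : β' ≠ 1 := fun h => he.2.1 (inv_eq_one.1 (by
    rw [hβ', conj_eq_one_iff, inv_eq_one] at h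
    rw [show e⁻¹ = μ * β₁ * μ⁻¹ by rw [hβ₁]; group, h, mul_one, mul_inv_cancel]))
  obtain ⟨e'', he'', -, ee''⟩ := hBC.cond_left β' hβ'B hβ'1
  have eC'' : cj B e'' = cj C β' := ee''
  have hxa : x * a = 1 := by
    refine lines_meet hAB hBC hAC hne (mul_mem hx ha) (mul_mem he'' he.1) ?_
    have h1 : cj C β₁⁻¹ = cj B x := by rw [← exA, ← hAβ, ← cj_cj, cj_cancel]
    have h2 : cj B (x * n⁻¹) = cj B e'' := by
      rw [eC'', hβ', ← cj_cj, ← h1, ← cj_cj, ← cj_cj (A := C), hCn]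
    have h3 := congrArg (fun K => cj K e) h2
    simp only [cj_cj] at h3
    rwa [show x * n⁻¹ * e = x * a by rw [hn_def]; group] at h3
  obtain rfl : x = a⁻¹ := eq_inv_of_mul_eq_one_left hxa
  have hββ : β = b' := by
    refine inv_injective (conjBy_inj_left (RankOnePair_symm hAB) (inv_mem hβB) (inv_mem hb') ?_)
    exact exA.trans eAb'.symm
  rw [hβ, hμ] at hββ
  have h5 : b' * (a * b⁻¹ * a * b * a⁻¹) * b'⁻¹ = b' := by
    conv_rhs => rw [← hββ]
    group
  have h4 : b' = a * b⁻¹ * a * b * a⁻¹ := by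
    calc b' = b'⁻¹ * b' * b' := by group
      _ = b'⁻¹ * (b' * (a * b⁻¹ * a * b * a⁻¹) * b'⁻¹) * b' := by rw [h5]
      _ = _ := by group
  rw [h4]
  group

/-- **The pair is special.** -/
theorem special : IsSpecialRankOnePair A B := by
  refine ⟨hAB, fun a ha ha1 b hb hb1 e => ?_⟩
  have hc : Special.Corr A B a b := ⟨ha, ha1, hb, hb1, e⟩
  obtain ⟨b', hc'⟩ := Special.exists_corr hAB (inv_mem ha) (inv_ne_one.2 ha1)
  have h1 := swap_eq hAB hBC hAC hne hc hc'
  have h2 := swap_eq hAB hBC hAC hne hc' (by rwa [inv_inv])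
  have h3 : b' * a * b⁻¹ = a * b' * a := by
    calc b' * a * b⁻¹ = (b * a⁻¹ * b'⁻¹)⁻¹ := by group
      _ = (a⁻¹ * b'⁻¹ * a⁻¹)⁻¹ := by rw [h2]
      _ = _ := by group
  have h4 : b' = b⁻¹ := mul_left_cancel (mul_right_cancel (h3.symm.trans h1))
  rw [h4] at h1
  have h5 : a * (b⁻¹ * a * b) = b⁻¹ * a := by
    rw [← mul_assoc, ← mul_assoc, ← h1, inv_mul_cancel_right]
  rw [mul_assoc a⁻¹ b⁻¹ a]
  exact eq_inv_mul_of_mul_eq h5

end Good

end CfsgLib.RootSpecial
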